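import Groth.Prelude.Def_W4c5flasquetoriphsGLat
import Mathlib.LinearAlgebra.FreeModule.PID
import Mathlib.LinearAlgebra.Dual.Lemmas
import Mathlib.RingTheory.Noetherian.Basic
import Mathlib.GroupTheory.Coset.Card
import Mathlib.Tactic

/-!
Permutation, flasque and coflasque resolutions of lattices over a finite group.
-/

namespace Groth.Agent.GLatLib

open GLat

variable {G : Type} [Group G]

/-- The permutation representation on integer functions on a `G`-set. -/
noncomputable def permRep (G : Type) [Group G] (X : Type) [MulAction G X] :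
    Representation ℤ G (X → ℤ) where
  toFun g := LinearMap.funLeft ℤ ℤ (fun x : X => g⁻¹ • x)
  map_one' := by
    refine LinearMap.ext fun f => funext fun x => ?_
    simp [LinearMap.funLeft_apply]
  map_mul' g h := by
    refine LinearMap.ext fun f => funext fun x => ?_
    simp [LinearMap.funLeft_apply, mul_smul]

theorem permRep_apply {X : Type} [MulAction G X] (g : G) (f : X → ℤ) (x : X) :
    permRep G X g f x = f (g⁻¹ • x) := rfl

theorem permRep_single {X : Type} [MulAction G X] [DecidableEq X] (g : G) (x : X) (c : ℤ) :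
    permRep G X g (Pi.single x c) = Pi.single (g • x) c := by
  funext y
  rw [permRep_apply, Pi.single_apply, Pi.single_apply]
  by_cases h : y = g • x
  · rw [if_pos h, if_pos (by rw [h, inv_smul_smul])]
  · rw [if_neg h, if_neg]
    intro h'
    exact h (by rw [← h', smul_inv_smul])

theorem isPermutation_permRep (X : Type) [MulAction G X] [Fintype X] :
    IsPermutation (permRep G X) := by
  classical
  exact ⟨X, Pi.basisFun ℤ X, fun g i => ⟨g • i, by simp [permRep_single]⟩⟩

theorem isCoflasque_permRep [Finite G] (X : Type) [MulAction G X] :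
    IsCoflasque (permRep G X) := by
  intro H f hf
  classical
  have : Fintype H := Fintype.ofFinite H
  let S : X → ℤ := fun x => ∑ b : H, f b x
  have hn : (Fintype.card H : ℤ) ≠ 0 := by exact_mod_cast Fintype.card_ne_zero
  refine ⟨fun x => -(S x / Fintype.card H), fun a => funext fun x => ?_⟩
  have hS : S x = (Fintype.card H : ℤ) * f a x + S ((a : G)⁻¹ • x) := by
    calc S x = ∑ b : H, f (a * b) x :=
          (Equiv.sum_comp (Equiv.mulLeft a) (fun b => f b x)).symm
      _ = ∑ b : H, (f a x + f b ((a : G)⁻¹ • x)) :=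
          Finset.sum_congr rfl fun b _ => by rw [hf, Pi.add_apply, permRep_apply]
      _ = _ := by simp [S, Finset.sum_add_distrib]
  rw [Pi.sub_apply, permRep_apply, hS, add_comm ((Fintype.card H : ℤ) * f a x),
    Int.add_mul_ediv_left _ _ hn]
  ring

theorem isFlasque_permRep [Finite G] (X : Type) [MulAction G X] [Fintype X] :
    IsFlasque (permRep G X) := by
  intro H m hm
  classical
  have : Fintype H := Fintype.ofFinite H
  rw [finsum_eq_sum_of_fintype] at hm
  let r : X → X := fun x => (Quotient.mk (MulAction.orbitRel H X) x).out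
  have hr : ∀ x, ∃ h : H, r x = (h : G) • x := fun x => by
    obtain ⟨h, hh⟩ := MulAction.orbitRel_apply.mp
      (Quotient.mk_out (s := MulAction.orbitRel H X) x)
    exact ⟨h, hh.symm⟩
  have hrinv : ∀ (h : H) x, r ((h : G) • x) = r x := fun h x => by
    have e : Quotient.mk (MulAction.orbitRel H X) ((h : G) • x)
        = Quotient.mk (MulAction.orbitRel H X) x :=
      Quotient.sound (MulAction.orbitRel_apply.mpr ⟨h, rfl⟩)
    simp only [r, e]
  have hdec : m = ∑ x : X, m x • (Pi.single x 1 - Pi.single (r x) 1 : X → ℤ)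
      + ∑ x : X, m x • (Pi.single (r x) 1 : X → ℤ) := by
    rw [← Finset.sum_add_distrib]
    funext y
    simp [Finset.sum_apply, Pi.single_apply, mul_sub]
  have h0 : ∑ x : X, m x • (Pi.single (r x) 1 : X → ℤ) = 0 := by
    funext y
    simp only [Finset.sum_apply, Pi.smul_apply, Pi.single_apply, smul_eq_mul, mul_ite, mul_one,
      mul_zero, Pi.zero_apply]
    have h1 : ∀ h : H, (∑ x : X, if y = r x then m x else 0)
        = ∑ x : X, if y = r x then m ((h : G)⁻¹ • x) else 0 := fun h => by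
      rw [← Equiv.sum_comp (MulAction.toPerm ((h : G)⁻¹ : G))]
      refine Finset.sum_congr rfl fun x _ => ?_
      have := hrinv h⁻¹ x
      simp only [InvMemClass.coe_inv] at this
      simp [this]
    have h2 : (Fintype.card H : ℤ) * (∑ x : X, if y = r x then m x else 0) = 0 := by
      calc (Fintype.card H : ℤ) * (∑ x : X, if y = r x then m x else 0)
          = ∑ h : H, ∑ x : X, if y = r x then m ((h : G)⁻¹ • x) else 0 := by
            simp [← h1]
        _ = ∑ x : X, ∑ h : H, if y = r x then m ((h : G)⁻¹ • x) else 0 := Finset.sum_comm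
        _ = 0 := Finset.sum_eq_zero fun x _ => by
            have := congrFun hm x
            simp only [Finset.sum_apply, permRep_apply, Pi.zero_apply] at this
            split_ifs <;> simp [this]
    exact (mul_eq_zero.mp h2).resolve_left (by exact_mod_cast Fintype.card_ne_zero)
  rw [hdec, h0, add_zero]
  refine sum_mem fun x _ => Submodule.smul_mem _ _ ?_
  obtain ⟨h, hh⟩ := hr x
  rw [hh, ← permRep_single, ← neg_sub]
  exact neg_mem (Submodule.subset_span ⟨h, _, rfl⟩)

section Basics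

variable {M N : Type} [AddCommGroup M] [AddCommGroup N]

theorem equivariant_finsum [Finite G] (H : Subgroup G) {ρ : Representation ℤ G M}
    {σ : Representation ℤ G N} {f : M →ₗ[ℤ] N} (hf : IsEquivariant ρ σ f) (m : M) :
    f (∑ᶠ h : H, ρ (h : G) m) = ∑ᶠ h : H, σ (h : G) (f m) := by
  have : Fintype H := Fintype.ofFinite H
  rw [finsum_eq_sum_of_fintype, finsum_eq_sum_of_fintype, map_sum]
  exact Finset.sum_congr rfl fun h _ => hf h m

/-- The representation on an invariant submodule. -/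
def subRep (ρ : Representation ℤ G M) (S : Submodule ℤ M) (hS : ∀ g, ∀ m ∈ S, ρ g m ∈ S) :
    Representation ℤ G S where
  toFun g := (ρ g).restrict (hS g)
  map_one' := LinearMap.ext fun m => Subtype.ext (by simp)
  map_mul' g h := LinearMap.ext fun m => Subtype.ext (by simp)

theorem subRep_coe (ρ : Representation ℤ G M) (S : Submodule ℤ M)
    (hS : ∀ g, ∀ m ∈ S, ρ g m ∈ S) (g : G) (m : S) :
    (subRep ρ S hS g m : M) = ρ g (m : M) := rfl

/-- The submodule of fixed points of a subgroup. -/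
def fixed (ρ : Representation ℤ G M) (H : Subgroup G) : Submodule ℤ M where
  carrier := {m | ∀ h : H, ρ (h : G) m = m}
  add_mem' {a b} ha hb h := by rw [map_add, ha h, hb h]
  zero_mem' h := map_zero _
  smul_mem' c m hm h := by rw [map_smul, hm h]

/-- An extension of coflasque modules is coflasque, in the form: kernel coflasque, and the image
of the cocycle in the quotient is a coboundary of an element which lifts. -/
theorem isCoflasque_of_extension {K : Type} [AddCommGroup K] {κ : Representation ℤ G K}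
    {ρ : Representation ℤ G M} {σ : Representation ℤ G N} {i : K →ₗ[ℤ] M} {p : M →ₗ[ℤ] N}
    (hi : IsEquivariant κ ρ i) (hp : IsEquivariant ρ σ p) (hinj : Function.Injective i)
    (hsurj : Function.Surjective p) (hexact : LinearMap.range i = LinearMap.ker p)
    (hK : IsCoflasque κ) (hN : IsCoflasque σ) : IsCoflasque ρ := by
  intro H f hf
  obtain ⟨n, hn⟩ := hN H (fun a => p (f a)) fun a b => by rw [hf, map_add, hp]
  obtain ⟨m, rfl⟩ := hsurj n
  have hk : ∀ a : H, f a - (ρ (a : G) m - m) ∈ LinearMap.range i := fun a => by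
    rw [hexact, LinearMap.mem_ker, map_sub, map_sub, hp, hn a, sub_self]
  choose k hk using hk
  obtain ⟨u, hu⟩ := hK H k fun a b => hinj (by
    rw [map_add, hi, hk, hk, hk, hf, map_sub, map_sub, Subgroup.coe_mul, map_mul,
      Module.End.mul_apply]
    abel)
  refine ⟨m + i u, fun a => ?_⟩
  have e := hk a
  rw [hu a, map_sub, hi] at e
  rw [map_add]
  rw [eq_sub_iff_add_eq] at e
  rw [← e]
  abel

/-- An extension of flasque modules is flasque. -/
theorem isFlasque_of_extension [Finite G] {K : Type} [AddCommGroup K] {κ : Representation ℤ G K}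
    {ρ : Representation ℤ G M} {σ : Representation ℤ G N} {i : K →ₗ[ℤ] M} {p : M →ₗ[ℤ] N}
    (hi : IsEquivariant κ ρ i) (hp : IsEquivariant ρ σ p) (hinj : Function.Injective i)
    (hsurj : Function.Surjective p) (hexact : LinearMap.range i = LinearMap.ker p)
    (hK : IsFlasque κ) (hN : IsFlasque σ) : IsFlasque ρ := by
  intro H m hm
  let I : Submodule ℤ M := Submodule.span ℤ {x : M | ∃ (h : H) (y : M), x = ρ (h : G) y - y}
  have hpm : p m ∈ I.map p := by
    refine Submodule.span_le.mpr ?_ (hN H (p m) (by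
      rw [← equivariant_finsum H hp, hm, map_zero]))
    rintro _ ⟨h, y, rfl⟩
    obtain ⟨z, rfl⟩ := hsurj y
    exact ⟨_, Submodule.subset_span ⟨h, z, rfl⟩, by rw [map_sub, hp]⟩
  obtain ⟨w, hw, hwm⟩ := hpm
  obtain ⟨k, hk⟩ : m - w ∈ LinearMap.range i := by
    rw [hexact, LinearMap.mem_ker, map_sub, hwm, sub_self]
  have hw0 : (∑ᶠ h : H, ρ (h : G) w) = 0 := by
    have : Fintype H := Fintype.ofFinite H
    refine Submodule.span_induction (p := fun w _ => (∑ᶠ h : H, ρ (h : G) w) = 0) ?_ ?_ ?_ ?_ hw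
    · rintro _ ⟨h, y, rfl⟩
      rw [finsum_eq_sum_of_fintype]
      simp only [map_sub, Finset.sum_sub_distrib, sub_eq_zero]
      rw [← Equiv.sum_comp (Equiv.mulRight h) (fun a : H => ρ (a : G) y)]
      simp
    · simp
    · intro a b _ _ ha hb
      rw [finsum_eq_sum_of_fintype] at *
      simp [Finset.sum_add_distrib, ha, hb]
    · intro c a _ ha
      rw [finsum_eq_sum_of_fintype] at *
      simp [← Finset.smul_sum, ha]
  have hk0 : (∑ᶠ h : H, κ (h : G) k) = 0 := hinj (by
    have : Fintype H := Fintype.ofFinite H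
    rw [equivariant_finsum H hi, map_zero, hk]
    rw [finsum_eq_sum_of_fintype] at *
    simp [Finset.sum_sub_distrib, hm, hw0])
  have hik : i k ∈ I := by
    refine (Submodule.span_le.mpr ?_ :
      Submodule.span ℤ {x : K | ∃ (h : H) (y : K), x = κ (h : G) y - y} ≤ I.comap i)
      (hK H k hk0)
    rintro _ ⟨h, y, rfl⟩
    exact Submodule.subset_span ⟨h, i y, by rw [map_sub, hi]⟩
  have := I.add_mem hik hw
  rwa [hk, sub_add_cancel] at this

theorem free_of_injective [Module.Finite ℤ N] [Module.Free ℤ N] (f : M →ₗ[ℤ] N)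
    (hf : Function.Injective f) : Module.Finite ℤ M ∧ Module.Free ℤ M := by
  have : Module.Finite ℤ M := Module.Finite.of_injective f hf
  have : Module.IsTorsionFree ℤ M := hf.moduleIsTorsionFree f (by simp)
  exact ⟨inferInstance, inferInstance⟩

end Basics

/-- Data of a coflasque cover. -/
theorem exists_cover [Finite G] {A : Type} [AddCommGroup A] [Module.Finite ℤ A]
    (ρ : Representation ℤ G A) :
    ∃ (X : Type) (_ : Fintype X) (_ : MulAction G X) (π : (X → ℤ) →ₗ[ℤ] A)
      (hπ : IsEquivariant (permRep G X) ρ π), Function.Surjective π ∧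
      IsCoflasque (subRep (permRep G X) (LinearMap.ker π)
        (fun g m hm => by rw [LinearMap.mem_ker] at *; rw [hπ, hm, map_zero])) := by
  classical
  choose n a ha using fun H : Subgroup G =>
    Submodule.fg_iff_exists_fin_generating_family.mp (IsNoetherian.noetherian (fixed ρ H))
  have hamem : ∀ H i, a H i ∈ fixed ρ H := fun H i => ha H ▸ Submodule.subset_span ⟨i, rfl⟩
  let X := Σ j : (Σ H : Subgroup G, Fin (n H)), G ⧸ j.1
  let act : MulAction G X :=
    { smul := fun g x => ⟨x.1, g • x.2⟩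
      one_smul := fun x => by show (⟨x.1, (1 : G) • x.2⟩ : X) = x; rw [one_smul]
      mul_smul := fun g h x => by
        show (⟨x.1, (g * h) • x.2⟩ : X) = ⟨x.1, g • h • x.2⟩; rw [mul_smul] }
  have : Fintype X := Fintype.ofFinite X
  let v : X → A := fun x => Quotient.liftOn' x.2 (fun g => ρ g (a x.1.1 x.1.2)) fun g g' h => by
    obtain ⟨u, hu⟩ : ∃ u : x.1.1, g' = g * u :=
      ⟨⟨g⁻¹ * g', QuotientGroup.leftRel_apply.mp h⟩, by simp⟩
    show ρ g _ = ρ g' _
    rw [hu, map_mul, Module.End.mul_apply, hamem _ _ u]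
  have hv : ∀ (g : G) (x : X), v (g • x) = ρ g (v x) := by
    rintro g ⟨j, q⟩
    induction q using Quotient.inductionOn' with
    | _ u =>
      show ρ (g * u) (a j.1 j.2) = ρ g (ρ u (a j.1 j.2))
      rw [map_mul, Module.End.mul_apply]
  let π : (X → ℤ) →ₗ[ℤ] A := Fintype.linearCombination ℤ v
  have hπ : IsEquivariant (permRep G X) ρ π := by
    intro g f
    simp only [π, Fintype.linearCombination_apply, map_sum, map_zsmul]
    rw [← Equiv.sum_comp (MulAction.toPerm g)]
    exact Finset.sum_congr rfl fun x _ => by simp [permRep_apply, hv]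
  have hfix : ∀ (H : Subgroup G), ∀ b ∈ fixed ρ H,
      ∃ p ∈ fixed (permRep G X) H, π p = b := by
    intro H b hb
    rw [← ha H] at hb
    refine (Submodule.span_le.mpr ?_ : Submodule.span ℤ (Set.range (a H)) ≤
      (fixed (permRep G X) H).map π) hb
    rintro _ ⟨i, rfl⟩
    refine ⟨Pi.single ⟨⟨H, i⟩, QuotientGroup.mk 1⟩ 1, fun h => ?_, ?_⟩
    · rw [permRep_single]
      congr 1
      exact congrArg (Sigma.mk (⟨H, i⟩ : Σ H : Subgroup G, Fin (n H)))
        (QuotientGroup.eq.mpr (by simp))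
    · simp [π, v]
  refine ⟨X, this, act, π, hπ, fun b => ?_, fun H f hf => ?_⟩
  · obtain ⟨p, -, hp⟩ := hfix ⊥ b (fun h => by rw [Subgroup.mem_bot.mp h.2]; simp)
    exact ⟨p, hp⟩
  · obtain ⟨m, hm⟩ := isCoflasque_permRep X H (fun b => (f b : X → ℤ)) fun b c => by
      rw [hf]; rfl
    have hb : π m ∈ fixed ρ H := fun h => by
      rw [← sub_eq_zero, ← hπ, ← map_sub, ← hm h]
      exact LinearMap.mem_ker.mp (f h).2
    obtain ⟨p, hp, hpm⟩ := hfix H _ hb
    refine ⟨⟨m - p, by rw [LinearMap.mem_ker, map_sub, hpm, sub_self]⟩,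
      fun h => Subtype.ext ?_⟩
    show (f h : X → ℤ) = permRep G X (h : G) (m - p) - (m - p)
    rw [map_sub, hp h, hm h]
    abel

/-- The dual representation. -/
def dualRep {M : Type} [AddCommGroup M] (ρ : Representation ℤ G M) :
    Representation ℤ G (M →ₗ[ℤ] ℤ) where
  toFun g := LinearMap.lcomp ℤ ℤ (ρ g⁻¹)
  map_one' := by ext; simp
  map_mul' g h := by ext; simp

theorem dualRep_apply {M : Type} [AddCommGroup M] (ρ : Representation ℤ G M) (g : G)
    (φ : M →ₗ[ℤ] ℤ) (m : M) : dualRep ρ g φ m = φ (ρ g⁻¹ m) := rfl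

/-- The dual of a coflasque lattice is flasque. -/
theorem isFlasque_dualRep [Finite G] {Q : Type} [AddCommGroup Q] [Module.Finite ℤ Q]
    [Module.Free ℤ Q] {σ : Representation ℤ G Q} (hQ : IsCoflasque σ) :
    IsFlasque (dualRep σ) := by
  intro H φ hφ
  classical
  have : Fintype H := Fintype.ofFinite H
  rw [finsum_eq_sum_of_fintype] at hφ
  let B : Q →ₗ[ℤ] (H → Q) := LinearMap.pi fun h : H => σ (h : G) - LinearMap.id
  have hsat : ∀ (c : ℤ) (w : H → Q), c ≠ 0 → c • w ∈ LinearMap.range B →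
      w ∈ LinearMap.range B := by
    rintro c w hc ⟨q, hq⟩
    obtain ⟨m, hm⟩ := hQ H w fun a b => by
      apply smul_right_injective Q hc
      show c • w (a * b) = c • (w a + σ (a : G) (w b))
      have e : ∀ h : H, c • w h = σ (h : G) q - q := fun h => (congrFun hq h).symm
      rw [smul_add, ← map_zsmul, e, e, e, map_sub, Subgroup.coe_mul, map_mul,
        Module.End.mul_apply]
      abel
    exact ⟨m, funext fun h => (hm h).symm⟩
  have hker : LinearMap.ker B ≤ LinearMap.ker φ := by
    intro q hq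
    have e : ∀ h : H, σ (h : G)⁻¹ q = q := fun h => by
      have := congrFun (LinearMap.mem_ker.mp hq) h⁻¹
      simpa [B, sub_eq_zero] using this
    have := LinearMap.congr_fun hφ q
    simp [dualRep_apply, e] at this
    exact LinearMap.mem_ker.mpr this
  have : Module.IsTorsionFree ℤ ((H → Q) ⧸ LinearMap.range B) := by
    refine Module.isTorsionFree_iff_smul_eq_zero.mpr fun c z => ?_
    intro h
    obtain ⟨w, rfl⟩ := Submodule.mkQ_surjective _ z
    by_contra hcon
    rw [not_or] at hcon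
    rw [Submodule.mkQ_apply, ← Submodule.Quotient.mk_smul, Submodule.Quotient.mk_eq_zero] at h
    exact hcon.2 ((Submodule.Quotient.mk_eq_zero _).mpr (hsat c w hcon.1 h))
  obtain ⟨s, hs⟩ := (LinearMap.range B).mkQ.exists_rightInverse_of_surjective
    (Submodule.range_mkQ _)
  let e := (LinearMap.quotKerEquivRange B).symm
  let retr : (H → Q) →ₗ[ℤ] LinearMap.range B :=
    (LinearMap.id - s ∘ₗ (LinearMap.range B).mkQ).codRestrict _ fun w => by
      rw [← Submodule.Quotient.mk_eq_zero, ← Submodule.mkQ_apply]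
      have := LinearMap.congr_fun hs ((LinearMap.range B).mkQ w)
      simp only [LinearMap.comp_apply, LinearMap.id_apply] at this
      simp [← Submodule.mkQ_apply, this]
  let ψ : (H → Q) →ₗ[ℤ] ℤ := ((LinearMap.ker B).liftQ φ hker) ∘ₗ e.toLinearMap ∘ₗ retr
  have hψ : ∀ q, φ q = ψ (B q) := by
    intro q
    have h1 : retr (B q) = LinearMap.quotKerEquivRange B (Submodule.Quotient.mk q) := by
      apply Subtype.ext
      simp [retr, LinearMap.quotKerEquivRange_apply_mk,
        (Submodule.Quotient.mk_eq_zero _).mpr (LinearMap.mem_range_self B q)]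
    simp only [ψ, LinearMap.comp_apply, h1, LinearEquiv.coe_coe, e,
      LinearEquiv.symm_apply_apply, Submodule.liftQ_apply]
  have hφeq : φ = ∑ h : H, (dualRep σ ((h⁻¹ : H) : G) (ψ ∘ₗ LinearMap.single ℤ (fun _ => Q) h)
      - ψ ∘ₗ LinearMap.single ℤ (fun _ => Q) h) := by
    ext q
    rw [hψ, ← Finset.univ_sum_single (B q), map_sum, LinearMap.sum_apply]
    refine Finset.sum_congr rfl fun h _ => ?_
    simp [B, dualRep_apply, Pi.single_sub]
  rw [hφeq]
  exact sum_mem fun h _ => Submodule.subset_span ⟨h⁻¹, _, rfl⟩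

/-- Flasque resolution of a lattice, in concrete form. -/
theorem exists_flasque_embedding [Finite G] {A : Type} [AddCommGroup A] [Module.Finite ℤ A]
    [Module.Free ℤ A] (ρ : Representation ℤ G A) :
    ∃ (X : Type) (_ : Fintype X) (_ : MulAction G X) (F : Type) (_ : AddCommGroup F)
      (_ : Module.Finite ℤ F) (_ : Module.Free ℤ F) (τ : Representation ℤ G F)
      (i : A →ₗ[ℤ] (X → ℤ)) (r : (X → ℤ) →ₗ[ℤ] F),
      IsEquivariant ρ (permRep G X) i ∧ IsEquivariant (permRep G X) τ r ∧ Function.Injective i ∧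
      Function.Surjective r ∧ LinearMap.range i = LinearMap.ker r ∧ IsFlasque τ := by
  obtain ⟨X, fX, act, π, hπ, hsurj, hco⟩ := exists_cover (dualRep ρ)
  classical
  obtain ⟨Q, hQ⟩ : ∃ Q, LinearMap.ker π = Q := ⟨_, rfl⟩
  have hQinv : ∀ g, ∀ m ∈ Q, permRep G X g m ∈ Q := fun g m hm => by
    rw [← hQ, LinearMap.mem_ker] at *
    rw [hπ, hm, map_zero]
  subst hQ
  obtain ⟨hfinQ, hfreeQ⟩ := free_of_injective (LinearMap.ker π).subtype Subtype.val_injective
  let v : X → (A →ₗ[ℤ] ℤ) := fun x => π (Pi.single x 1)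
  let i : A →ₗ[ℤ] (X → ℤ) := LinearMap.pi fun x => v x
  have hπv : ∀ f : X → ℤ, π f = ∑ x, f x • v x := fun f => by
    conv_lhs => rw [show f = ∑ x, f x • (Pi.single x 1 : X → ℤ) from
      funext fun y => by simp [Finset.sum_apply, Pi.single_apply]]
    rw [map_sum]
    exact Finset.sum_congr rfl fun x _ => map_zsmul π _ _
  let pair : (X → ℤ) →ₗ[ℤ] (X → ℤ) →ₗ[ℤ] ℤ := Fintype.linearCombination ℤ
    (fun x => LinearMap.proj x)
  have hpair : ∀ f g, pair f g = ∑ x, f x * g x := fun f g => by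
    simp [pair, Fintype.linearCombination_apply, LinearMap.sum_apply]
  let r : (X → ℤ) →ₗ[ℤ] (LinearMap.ker π →ₗ[ℤ] ℤ) :=
    LinearMap.lcomp ℤ ℤ (LinearMap.ker π).subtype ∘ₗ pair
  have hpi : ∀ a f, pair (i a) f = π f a := fun a f => by
    simp [hpair, hπv, i, LinearMap.sum_apply, mul_comm]
  refine ⟨X, fX, act, (LinearMap.ker π →ₗ[ℤ] ℤ), inferInstance, inferInstance, inferInstance,
    dualRep (subRep (permRep G X) _ hQinv), i, r, ?_, ?_, ?_, ?_, ?_, isFlasque_dualRep hco⟩
  · intro g a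
    funext x
    show v x (ρ g a) = v (g⁻¹ • x) a
    have : v (g⁻¹ • x) = dualRep ρ g⁻¹ (v x) := by rw [← hπ, permRep_single]
    rw [this, dualRep_apply, inv_inv]
  · intro g f
    ext ⟨q, hq⟩
    show pair (permRep G X g f) q = pair f (permRep G X g⁻¹ q)
    simp only [hpair, permRep_apply, inv_inv]
    rw [← Equiv.sum_comp (MulAction.toPerm g)]
    simp
  · rw [← LinearMap.ker_eq_bot, LinearMap.ker_eq_bot']
    intro a ha
    rw [← Module.forall_dual_apply_eq_zero_iff ℤ a]
    intro φ
    obtain ⟨f, rfl⟩ := hsurj φ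
    rw [← hpi, ha, map_zero, LinearMap.zero_apply]
  · obtain ⟨s, hs⟩ := π.exists_rightInverse_of_surjective (LinearMap.range_eq_top.mpr hsurj)
    intro φ
    let retr : (X → ℤ) →ₗ[ℤ] LinearMap.ker π := (LinearMap.id - s ∘ₗ π).codRestrict _ fun f => by
      have := LinearMap.congr_fun hs (π f)
      simp only [LinearMap.comp_apply, LinearMap.id_apply] at this
      simp [this]
    refine ⟨fun x => φ (retr (Pi.single x 1)), ?_⟩
    ext q
    show pair _ (q : X → ℤ) = φ q
    have hq : retr q = q := Subtype.ext (by simp [retr, LinearMap.mem_ker.mp q.2])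
    conv_rhs => rw [← hq]
    rw [hpair]
    conv_rhs => rw [pi_eq_sum_univ (q : X → ℤ)]
    simp only [map_sum, map_zsmul, smul_eq_mul]
    refine Finset.sum_congr rfl fun x _ => ?_
    rw [mul_comm]
    congr 4
    funext y
    simp [Pi.single_apply, eq_comm]
  · ext f
    constructor
    · rintro ⟨a, rfl⟩
      rw [LinearMap.mem_ker]
      ext ⟨q, hq⟩
      show pair (i a) q = 0
      rw [hpi, LinearMap.mem_ker.mp hq, LinearMap.zero_apply]
    · intro hf
      obtain ⟨s, hs⟩ := π.exists_rightInverse_of_surjective (LinearMap.range_eq_top.mpr hsurj)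
      obtain ⟨a, ha⟩ := (Module.evalEquiv ℤ A).surjective (pair f ∘ₗ s)
      refine ⟨a, funext fun x => ?_⟩
      have h1 : (v x) a = pair f (s (v x)) := LinearMap.congr_fun ha (v x)
      have h2 : pair f (Pi.single x 1 - s (v x)) = 0 := by
        have hmem : Pi.single x 1 - s (v x) ∈ LinearMap.ker π := by
          have := LinearMap.congr_fun hs (v x)
          simp only [LinearMap.comp_apply, LinearMap.id_apply] at this
          rw [LinearMap.mem_ker, map_sub, this, sub_self]
        exact LinearMap.congr_fun (LinearMap.mem_ker.mp hf) ⟨_, hmem⟩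
      rw [map_sub, sub_eq_zero, hpair] at h2
      show v x a = f x
      rw [h1, ← h2]
      simp [Pi.single_apply]

theorem flasque_embedding [Finite G] {A : Type} [AddCommGroup A] [Module.Finite ℤ A]
    [Module.Free ℤ A] (ρ : Representation ℤ G A) :
    ∃ (P : Type) (_ : AddCommGroup P) (F : Type) (_ : AddCommGroup F)
      (_ : Module.Finite ℤ P) (_ : Module.Free ℤ P) (_ : Module.Finite ℤ F) (_ : Module.Free ℤ F)
      (σ : Representation ℤ G P) (τ : Representation ℤ G F) (i : A →ₗ[ℤ] P) (π : P →ₗ[ℤ] F),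
      IsEquivariant ρ σ i ∧ IsEquivariant σ τ π ∧ Function.Injective i ∧ Function.Surjective π ∧
      LinearMap.range i = LinearMap.ker π ∧ IsPermutation σ ∧ IsFlasque τ := by
  obtain ⟨X, fX, act, F, gF, hF1, hF2, τ, i, r, h1, h2, h3, h4, h5, h6⟩ :=
    exists_flasque_embedding ρ
  exact ⟨X → ℤ, inferInstance, F, gF, inferInstance, inferInstance, hF1, hF2, permRep G X, τ, i,
    r, h1, h2, h3, h4, h5, isPermutation_permRep X, h6⟩

theorem coflasque_cover [Finite G] {A : Type} [AddCommGroup A] [Module.Finite ℤ A]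
    (ρ : Representation ℤ G A) :
    ∃ (Q : Type) (_ : AddCommGroup Q) (P : Type) (_ : AddCommGroup P)
      (_ : Module.Finite ℤ Q) (_ : Module.Free ℤ Q) (_ : Module.Finite ℤ P) (_ : Module.Free ℤ P)
      (σ : Representation ℤ G Q) (τ : Representation ℤ G P) (i : Q →ₗ[ℤ] P) (π : P →ₗ[ℤ] A),
      IsEquivariant σ τ i ∧ IsEquivariant τ ρ π ∧ Function.Injective i ∧ Function.Surjective π ∧
      LinearMap.range i = LinearMap.ker π ∧ IsPermutation τ ∧ IsCoflasque σ := by
  obtain ⟨X, fX, act, π, hπ, hsurj, hco⟩ := exists_cover ρ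
  obtain ⟨hfin, hfree⟩ := free_of_injective (LinearMap.ker π).subtype Subtype.val_injective
  exact ⟨LinearMap.ker π, inferInstance, X → ℤ, inferInstance, hfin, hfree, inferInstance,
    inferInstance, _, permRep G X, (LinearMap.ker π).subtype, π, fun g m => rfl, hπ,
    Subtype.val_injective, hsurj, Submodule.range_subtype _, isPermutation_permRep X, hco⟩

theorem coflasque_embedding [Finite G] {A : Type} [AddCommGroup A] [Module.Finite ℤ A]
    [Module.Free ℤ A] (ρ : Representation ℤ G A) :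
    ∃ (Q : Type) (_ : AddCommGroup Q) (P : Type) (_ : AddCommGroup P)
      (_ : Module.Finite ℤ Q) (_ : Module.Free ℤ Q) (_ : Module.Finite ℤ P) (_ : Module.Free ℤ P)
      (σ : Representation ℤ G Q) (τ : Representation ℤ G P) (i : A →ₗ[ℤ] Q) (π : Q →ₗ[ℤ] P),
      IsEquivariant ρ σ i ∧ IsEquivariant σ τ π ∧ Function.Injective i ∧ Function.Surjective π ∧
      LinearMap.range i = LinearMap.ker π ∧ IsCoflasque σ ∧ IsPermutation τ := by
  obtain ⟨X, fX, act, F, gF, hF1, hF2, τ, j, r, hj, hr, hjinj, hrsurj, hjr, -⟩ :=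
    exists_flasque_embedding ρ
  obtain ⟨Y, fY, actY, p, hp, hpsurj, hco⟩ := exists_cover τ
  let S : Submodule ℤ ((X → ℤ) × (Y → ℤ)) :=
    LinearMap.ker (r ∘ₗ LinearMap.fst ℤ _ _ - p ∘ₗ LinearMap.snd ℤ _ _)
  have hS : ∀ z, z ∈ S ↔ r z.1 = p z.2 := fun z => by simp [S, sub_eq_zero]
  let ω : Representation ℤ G ((X → ℤ) × (Y → ℤ)) :=
    { toFun := fun g => (permRep G X g).prodMap (permRep G Y g)
      map_one' := LinearMap.ext fun z => by simp
      map_mul' := fun g h => LinearMap.ext fun z => by simp }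
  have hω : ∀ g, ∀ z ∈ S, ω g z ∈ S := fun g z hz => by
    rw [hS] at *
    show r (permRep G X g z.1) = p (permRep G Y g z.2)
    rw [hr, hp, hz]
  obtain ⟨hfin, hfree⟩ := free_of_injective S.subtype Subtype.val_injective
  let i : A →ₗ[ℤ] S := (LinearMap.inl ℤ _ _ ∘ₗ j).codRestrict S fun a => by
    rw [hS]
    simp [LinearMap.mem_ker.mp (hjr ▸ LinearMap.mem_range_self j a)]
  let k : LinearMap.ker p →ₗ[ℤ] S :=
    (LinearMap.inr ℤ _ _ ∘ₗ (LinearMap.ker p).subtype).codRestrict S fun a => by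
      rw [hS]
      simp [LinearMap.mem_ker.mp a.2]
  refine ⟨S, inferInstance, Y → ℤ, inferInstance, hfin, hfree, inferInstance, inferInstance,
    subRep ω S hω, permRep G Y, i, LinearMap.snd ℤ _ _ ∘ₗ S.subtype, fun g a => ?_,
    fun g z => rfl, fun a b h => hjinj (congrArg (fun z : S => z.1.1) h), fun y => ?_, ?_, ?_,
    isPermutation_permRep Y⟩
  · apply Subtype.ext
    show (j (ρ g a), (0 : Y → ℤ)) = (permRep G X g (j a), permRep G Y g 0)
    rw [hj, map_zero]
  · obtain ⟨x, hx⟩ := hrsurj (p y)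
    exact ⟨⟨(x, y), (hS _).mpr hx⟩, rfl⟩
  · ext z
    constructor
    · rintro ⟨a, rfl⟩
      rfl
    · intro hz
      replace hz : z.1.2 = 0 := hz
      have h1 := (hS _).mp z.2
      rw [hz, map_zero] at h1
      obtain ⟨a, ha⟩ : z.1.1 ∈ LinearMap.range j := hjr ▸ h1
      exact ⟨a, Subtype.ext (Prod.ext ha hz.symm)⟩
  · refine isCoflasque_of_extension (i := k) (p := LinearMap.fst ℤ _ _ ∘ₗ S.subtype)
      (σ := permRep G X) (fun g a => Subtype.ext ?_) (fun g z => rfl) (fun a b h => ?_)
      (fun x => ?_) ?_ hco (isCoflasque_permRep X)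
    · show ((0 : X → ℤ), permRep G Y g (a : Y → ℤ))
        = (permRep G X g 0, permRep G Y g (a : Y → ℤ))
      rw [map_zero]
    · exact Subtype.ext (congrArg (fun z : S => z.1.2) h)
    · obtain ⟨y, hy⟩ := hpsurj (r x)
      exact ⟨⟨(x, y), (hS _).mpr hy.symm⟩, rfl⟩
    · ext z
      constructor
      · rintro ⟨a, rfl⟩
        rfl
      · intro hz
        replace hz : z.1.1 = 0 := hz
        have h1 := (hS _).mp z.2
        rw [hz, map_zero] at h1
        exact ⟨⟨z.1.2, h1.symm⟩, Subtype.ext (Prod.ext hz.symm rfl)⟩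

theorem flasque_cover [Finite G] {A : Type} [AddCommGroup A] [Module.Finite ℤ A]
    (ρ : Representation ℤ G A) :
    ∃ (P : Type) (_ : AddCommGroup P) (F : Type) (_ : AddCommGroup F)
      (_ : Module.Finite ℤ P) (_ : Module.Free ℤ P) (_ : Module.Finite ℤ F) (_ : Module.Free ℤ F)
      (σ : Representation ℤ G P) (τ : Representation ℤ G F) (i : P →ₗ[ℤ] F) (π : F →ₗ[ℤ] A),
      IsEquivariant σ τ i ∧ IsEquivariant τ ρ π ∧ Function.Injective i ∧ Function.Surjective π ∧
      LinearMap.range i = LinearMap.ker π ∧ IsPermutation σ ∧ IsFlasque τ := by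
  obtain ⟨X, fX, act, p, hp, hpsurj, -⟩ := exists_cover ρ
  obtain ⟨hQfin, hQfree⟩ := free_of_injective (LinearMap.ker p).subtype Subtype.val_injective
  obtain ⟨Y, fY, actY, F₁, gF₁, hF1, hF2, τ₁, j, r, hj, hr, hjinj, hrsurj, hjr, hfl⟩ :=
    exists_flasque_embedding (subRep (permRep G X) (LinearMap.ker p)
      (fun g m hm => by rw [LinearMap.mem_ker] at *; rw [hp, hm, map_zero]))
  let θ : LinearMap.ker p →ₗ[ℤ] (X → ℤ) × (Y → ℤ) := (LinearMap.ker p).subtype.prod (-j)
  let R := LinearMap.range θ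
  let ω : Representation ℤ G ((X → ℤ) × (Y → ℤ)) :=
    { toFun := fun g => (permRep G X g).prodMap (permRep G Y g)
      map_one' := LinearMap.ext fun z => by simp
      map_mul' := fun g h => LinearMap.ext fun z => by simp }
  have hR : ∀ g, R ≤ R.comap (ω g) := by
    rintro g _ ⟨q, rfl⟩
    refine ⟨subRep (permRep G X) (LinearMap.ker p)
      (fun g m hm => by rw [LinearMap.mem_ker] at *; rw [hp, hm, map_zero]) g q, ?_⟩
    show (_, -(j _)) = (permRep G X g (q : X → ℤ), permRep G Y g (-(j q)))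
    rw [hj, map_neg]
    rfl
  let τ : Representation ℤ G (((X → ℤ) × (Y → ℤ)) ⧸ R) :=
    { toFun := fun g => R.mapQ R (ω g) (hR g)
      map_one' := by ext <;> simp
      map_mul' := fun g h => by ext <;> simp }
  have hτ : ∀ g z, τ g (R.mkQ z) = R.mkQ (ω g z) := fun g z => rfl
  let q₁ : (((X → ℤ) × (Y → ℤ)) ⧸ R) →ₗ[ℤ] F₁ := R.liftQ (r ∘ₗ LinearMap.snd ℤ _ _) (by
    rintro _ ⟨q, rfl⟩
    simp [θ, LinearMap.mem_ker.mp (hjr ▸ LinearMap.mem_range_self j q)])
  let i₀ : (X → ℤ) →ₗ[ℤ] (((X → ℤ) × (Y → ℤ)) ⧸ R) := R.mkQ ∘ₗ LinearMap.inl ℤ _ _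
  let i₁ : (Y → ℤ) →ₗ[ℤ] (((X → ℤ) × (Y → ℤ)) ⧸ R) := R.mkQ ∘ₗ LinearMap.inr ℤ _ _
  have hi₀inj : Function.Injective i₀ := by
    rw [← LinearMap.ker_eq_bot, LinearMap.ker_eq_bot']
    intro x hx
    obtain ⟨q, hq⟩ := (Submodule.Quotient.mk_eq_zero R).mp hx
    have h1 : -(j q) = 0 := congrArg Prod.snd hq
    have h2 : q = 0 := hjinj (by rw [map_zero, ← neg_eq_zero, h1])
    have h3 : (q : X → ℤ) = x := congrArg Prod.fst hq
    rw [← h3, h2]
    rfl
  have hexact : LinearMap.range i₀ = LinearMap.ker q₁ := by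
    ext z
    constructor
    · rintro ⟨x, rfl⟩
      simp [q₁, i₀]
    · obtain ⟨⟨x, y⟩, rfl⟩ := R.mkQ_surjective z
      intro hz
      obtain ⟨q, hq⟩ : y ∈ LinearMap.range j := hjr ▸ LinearMap.mem_ker.mpr hz
      refine ⟨x + q, (Submodule.Quotient.eq R).mpr ⟨q, ?_⟩⟩
      subst hq
      simp [θ]
  have htf : Module.IsTorsionFree ℤ (((X → ℤ) × (Y → ℤ)) ⧸ R) := by
    refine Module.isTorsionFree_iff_smul_eq_zero.mpr fun c z => ?_
    intro h
    by_contra hcon
    rw [not_or] at hcon
    have h1 : q₁ z = 0 := smul_right_injective F₁ hcon.1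
      (show c • q₁ z = c • (0 : F₁) by rw [← map_zsmul, h, map_zero, smul_zero])
    obtain ⟨x, rfl⟩ : z ∈ LinearMap.range i₀ := hexact ▸ h1
    have : c • x = 0 := hi₀inj (by rw [map_zsmul, h, map_zero])
    exact hcon.2 (by rw [(smul_eq_zero.mp this).resolve_left hcon.1, map_zero])
  refine ⟨Y → ℤ, inferInstance, _ ⧸ R, inferInstance, inferInstance, inferInstance,
    inferInstance, inferInstance, permRep G Y, τ, i₁,
    R.liftQ (p ∘ₗ LinearMap.fst ℤ _ _) (by rintro _ ⟨q, rfl⟩; exact q.2), fun g y => ?_,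
    fun g z => ?_, ?_, fun a => ?_, ?_, isPermutation_permRep Y,
    isFlasque_of_extension (i := i₀) (p := q₁) (fun g x => ?_) (fun g z => ?_) hi₀inj
      (fun f => ?_) hexact (isFlasque_permRep X) hfl⟩
  · show R.mkQ ((0 : X → ℤ), permRep G Y g y)
      = R.mkQ (permRep G X g 0, permRep G Y g y)
    rw [map_zero]
  · obtain ⟨z, rfl⟩ := R.mkQ_surjective z
    exact hp g z.1
  · rw [← LinearMap.ker_eq_bot, LinearMap.ker_eq_bot']
    intro y hy
    obtain ⟨q, hq⟩ := (Submodule.Quotient.mk_eq_zero R).mp hy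
    have h1 : (q : X → ℤ) = 0 := congrArg Prod.fst hq
    have h2 : -(j q) = y := congrArg Prod.snd hq
    rw [← h2, show q = 0 from Subtype.ext h1, map_zero, neg_zero]
  · obtain ⟨x, rfl⟩ := hpsurj a
    exact ⟨R.mkQ (x, 0), rfl⟩
  · ext z
    constructor
    · rintro ⟨y, rfl⟩
      simp [i₁]
    · obtain ⟨⟨x, y⟩, rfl⟩ := R.mkQ_surjective z
      intro hz
      refine ⟨y + j ⟨x, hz⟩, (Submodule.Quotient.eq R).mpr ⟨-⟨x, hz⟩, ?_⟩⟩
      simp [θ]
  · show R.mkQ (permRep G X g x, (0 : Y → ℤ))
      = R.mkQ (permRep G X g x, permRep G Y g 0)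
    rw [map_zero]
  · obtain ⟨z, rfl⟩ := R.mkQ_surjective z
    exact hr g z.2
  · obtain ⟨y, rfl⟩ := hrsurj f
    exact ⟨R.mkQ (0, y), rfl⟩

end Groth.Agent.GLatLib
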